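import Groth.Agent.Lib.CanExt7.Series
import Groth.Agent.Lib.GenT7.GenModel
import Groth.Agent.S9534

/-!
# Canonical extension from graded finiteness
-/

set_option autoImplicit false
set_option linter.style.haveILetI false
set_option linter.unusedSectionVars false

universe u

open CategoryTheory CategoryTheory.Limits AlgebraicGeometry Opposite

noncomputable section

namespace GrothLib.CanExt7

open GrothLib.GenT7 GrothLib.GenT7.Gen GrothLib.FormalSys GrothLib.Cohom GrothLib.FormalFun
open GrothLib.PuncSys7 (gsec gmap)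

theorem imageSubobject_eq_of_range {R : Type u} [Ring R] {X X' Y : ModuleCat.{u} R} (f : X ⟶ Y) (g : X' ⟶ Y)
    (h : LinearMap.range f.hom = LinearMap.range g.hom) : imageSubobject f = imageSubobject g := by
  refine Subobject.mk_eq_mk_of_comm _ _
    (ModuleCat.imageIsoRange f ≪≫ (LinearEquiv.ofEq _ _ h).toModuleIso ≪≫ (ModuleCat.imageIsoRange g).symm) ?_
  simp only [Iso.trans_hom, Iso.symm_hom, Category.assoc, ModuleCat.imageIsoRange_inv_image_ι]
  rw [← ModuleCat.imageIsoRange_hom_subtype f]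
  rfl

variable {A : Type u} [CommRing A] [IsNoetherianRing A] {I 𝔞 : Ideal A}

/-- Graded finiteness in degrees zero and one gives a canonical extension. -/
theorem canonicallyExtends (hI𝔞 : I ≤ 𝔞) (G : ℕᵒᵖ ⥤ (LocCoh.puncturedOpen A 𝔞 : Scheme.{u}).Modules)
    (hG : Formal.IsCohFormal I G)
    (h0 : Module.Finite A (Coh.HH (LocCoh.puncturedOpen A 𝔞 : Scheme.{u}) (gob G 0) 0))
    {b : ℕ} (c : Fin b → Coh.HH (LocCoh.puncturedOpen A 𝔞 : Scheme.{u}) (gob G 0) 1) (hc : ClsSurj G hG c)
    {d : ℕ} (e : Fin d → Coh.HH (LocCoh.puncturedOpen A 𝔞 : Scheme.{u}) (gob G 0) 0) (he : ClsSurj G hG e) :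
    Algz.CanonicallyExtends A I (LocCoh.puncturedOpen A 𝔞) G := by
  classical
  let S := fun n => Coh.HH (LocCoh.puncturedOpen A 𝔞 : Scheme.{u}) (gob G n) 0
  let X := Algz.sectMod A (LocCoh.puncturedOpen A 𝔞) G
  let dn : ∀ {m n : ℕ}, n ≤ m → (S m →ₗ[A] S n) := fun h => sd (A := A) G h
  let ev : ∀ n, S n ≃ₗ[A] X.obj (op n) := fun n => secEquiv (A := A) (I := 𝔞) (gob G n)
  have hd : ∀ {m n : ℕ} (h : n ≤ m) (y : S m), ev n (dn h y) = (X.map (homOfLE h).op).hom (ev m y) :=
    fun h y => secEquiv_map (A := A) (I := 𝔞) (gdn G h) y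
  have hcomp : ∀ {m n k : ℕ} (h₁ : n ≤ m) (h₂ : k ≤ n) (x : S m), dn h₂ (dn h₁ x) = dn (h₂.trans h₁) x :=
    fun h₁ h₂ x => sd_comp G h₁ h₂ x
  have hself : ∀ {n : ℕ} (x : S n), dn (le_refl n) x = x := fun x => sd_self G x
  obtain ⟨R₁, hR₁⟩ := exists_lift_family (S := S) I @dn @hcomp @hself
    (H := fun n => Coh.HH (LocCoh.puncturedOpen A 𝔞 : Scheme.{u}) (K G n) 1) (fun n => δ G hG n)
    (fun n a ha => cls G hG c n a ha) (fun n a a' ha ha' => cls_add G hG c n a a' ha ha')
    (fun n r a ha => cls_smul G hG c n r a ha) hc (fun n x => delta_exact G hG n x)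
    (fun r n k g hg a ha x hx e' => delta_mul G hG c r n k g hg a ha x hx e')
  obtain ⟨R₂, hR₂⟩ := topology_limSys (S := S) I @dn @hcomp @hself (fun n a ha => inK G hG e n a ha)
    (fun n a a' ha ha' => inK_add G hG e n a a' ha ha') (fun n r a ha => inK_smul G hG e n r a ha)
    (fun n y => ker_sd G hG e he n y) (fun n k g hg x => smul_zero_of_sd G hG n k g hg x)
    (fun n k g hg x a ha hga => smul_inK G hG e n k g hg x a ha hga)
  have hfin := finite_terms (S := S) I @dn (fun n a ha => inK G hG e n a ha)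
    (fun n a a' ha ha' => inK_add G hG e n a a' ha ha') (fun n r a ha => inK_smul G hG e n r a ha)
    (fun n y => ker_sd G hG e he n y) h0
  have hπ : ∀ z : limSys (Gen.step (S := S) @dn), ∃ x : (limit X : ModuleCat.{u} A),
      ∀ n, (limit.π X (op n)).hom x = ev n (projSys (Gen.step (S := S) @dn) n z) := fun z =>
    Algz7.exists_limit_π_eq X _ fun n =>
      (hd (Nat.le_succ n) _).symm.trans (congrArg (ev n) (projSys_map _ n z))
  choose φ hφ using hπ
  let φₗ : limSys (Gen.step (S := S) @dn) →ₗ[A] (limit X : ModuleCat.{u} A) :=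
    { toFun := φ
      map_add' := fun z z' => Algz7.limit_ext X _ _ fun n => by
        rw [map_add, hφ, hφ, hφ, map_add, map_add]
      map_smul' := fun r z => Algz7.limit_ext X _ _ fun n => by
        rw [map_smul, hφ, hφ, map_smul, map_smul]; rfl }
  have hsurj : Function.Surjective φₗ := fun x => by
    obtain ⟨z, hz⟩ := exists_mem (Gen.step (S := S) @dn) (fun n => (ev n).symm ((limit.π X (op n)).hom x)) fun n => by
      refine (ev n).injective ?_
      rw [LinearEquiv.apply_symm_apply]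
      refine (hd (Nat.le_succ n) _).trans ?_
      rw [LinearEquiv.apply_symm_apply]
      exact ConcreteCategory.congr_hom (limit.w X (homOfLE (Nat.le_succ n)).op) x
    exact ⟨z, Algz7.limit_ext X _ _ fun n => (hφ z n).trans (by rw [hz, LinearEquiv.apply_symm_apply])⟩
  refine Groth.Agent.S9534.result A I 𝔞 hI𝔞 G hG (fun n => ⟨R₁, fun s hs => ?_⟩) (fun k => ⟨R₂ + k, ?_⟩) fun n => ?_
  · refine imageSubobject_eq_of_range _ _ (le_antisymm ?_ ?_)
    · rintro _ ⟨x, rfl⟩
      refine ⟨(X.map (homOfLE (show n + R₁ ≤ n + s by omega)).op).hom x, ?_⟩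
      exact (ConcreteCategory.congr_hom (X.map_comp (homOfLE (show n + R₁ ≤ n + s by omega)).op
        (homOfLE (Nat.le_add_right n R₁)).op) x).symm
    · rintro _ ⟨x, rfl⟩
      obtain ⟨z, hz⟩ := hR₁ n ((ev (n + R₁)).symm x)
      refine ⟨ev (n + s) (projSys (Gen.step (S := S) @dn) (n + s) z), ?_⟩
      refine (hd (Nat.le_add_right n s) _).symm.trans ?_
      rw [proj_le (S := S) @dn @hcomp @hself, hz]
      refine (hd (Nat.le_add_right n R₁) _).trans ?_
      rw [LinearEquiv.apply_symm_apply]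
      rfl
  · intro x hx
    obtain ⟨z, rfl⟩ := hsurj x
    have h1 : projSys (Gen.step (S := S) @dn) (R₂ + k) z = 0 :=
      (LinearEquiv.map_eq_zero_iff (ev _)).1 ((hφ z _).symm.trans (LinearMap.mem_ker.1 hx))
    have h2 := Submodule.mem_map_of_mem (f := φₗ) (hR₂ k z h1)
    rw [Submodule.map_smul''] at h2
    exact SetLike.le_def.1 (smul_mono_right _ le_top) h2
  · haveI := hfin n
    haveI : Module.Finite A (X.obj (op n)) := Module.Finite.equiv (ev n)
    haveI : IsNoetherian A (X.obj (op n)) := inferInstance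
    exact Module.Finite.of_injective (LinearMap.range _).subtype Subtype.val_injective

end GrothLib.CanExt7
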