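import Groth.Agent.Lib.GenT7.GenUp
import Groth.Agent.Lib.FormalFun.Stalk
import Groth.Prelude.Def_Algz2
import Mathlib.RingTheory.AdicCompletion.Functoriality

/-!
# Completed stalks of a formal system and the stalks of its terms
-/

set_option autoImplicit false
set_option linter.style.haveILetI false
set_option linter.unusedSectionVars false

universe u

open CategoryTheory CategoryTheory.Limits AlgebraicGeometry Opposite

noncomputable section

namespace GrothLib.CanExt7

open GrothLib.FormalSys GrothLib.FormalFun GrothLib.GenT7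
open GrothLib.QCoh (stalkLin)

section algebra

variable {R M : Type*} [CommRing R] [AddCommGroup M] [Module R M]

theorem exists_sum_of_mem_span_smul {ι : Type*} [Fintype ι] (g : ι → R) (N : Submodule R M) {x : M}
    (hx : x ∈ Ideal.span (Set.range g) • N) : ∃ u : ι → M, (∀ i, u i ∈ N) ∧ ∑ i, g i • u i = x := by
  refine Submodule.smul_induction_on hx (fun r hr n hn => ?_) ?_
  · obtain ⟨c, hc⟩ := Ideal.mem_span_range_iff_exists_fun.1 hr
    refine ⟨fun i => c i • n, fun i => N.smul_mem _ hn, ?_⟩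
    rw [← hc, Finset.sum_smul]
    exact Finset.sum_congr rfl fun i _ => by rw [smul_smul, mul_comm]
  · rintro a b ⟨u, hu, rfl⟩ ⟨v, hv, rfl⟩
    refine ⟨u + v, fun i => N.add_mem (hu i) (hv i), ?_⟩
    rw [← Finset.sum_add_distrib]
    exact Finset.sum_congr rfl fun i _ => by rw [Pi.add_apply, smul_add]

end algebra

section tower

variable {R : Type*} [CommRing R] (K : Ideal R) {S : ℕ → Type*} [∀ n, AddCommGroup (S n)] [∀ n, Module R (S n)]
  (t : ∀ {n m : ℕ}, n ≤ m → (S m →ₗ[R] S n))
  (hcomp : ∀ {m n k : ℕ} (h₁ : n ≤ m) (h₂ : k ≤ n) (x : S m), t h₂ (t h₁ x) = t (h₂.trans h₁) x)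
  (hself : ∀ {n : ℕ} (x : S n), t (le_refl n) x = x)
  (hsurj : ∀ n, Function.Surjective (t (Nat.le_succ n)))
  (hker : ∀ {n m : ℕ} (h : n ≤ m) (x : S m), t h x = 0 ↔ x ∈ K ^ (n + 1) • (⊤ : Submodule R (S m)))

include hcomp hself hsurj in
theorem exists_compatible (m : ℕ) (z : S m) :
    ∃ v : ∀ i, S i, (∀ i, t (Nat.le_succ i) (v (i + 1)) = v i) ∧ v m = z := by
  choose L hL using hsurj
  let p : ∀ i, S (m + i) := fun i => Nat.rec (motive := fun i => S (m + i)) z (fun i x => L (m + i) x) i
  have hp : ∀ i (h : m ≤ m + i), t h (p i) = z := by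
    intro i
    induction i with
    | zero => exact fun h => hself z
    | succ i ih =>
      intro h
      exact ((hcomp (Nat.le_succ (m + i)) (Nat.le_add_right m i) _).symm.trans
        (congrArg (t (Nat.le_add_right m i)) (hL (m + i) (p i)))).trans (ih _)
  refine ⟨fun i => t (Nat.le_add_left i m) (p i), fun i => ?_, hp m _⟩
  refine (hcomp (Nat.le_add_left (i + 1) m) (Nat.le_succ i) _).trans ?_
  exact (hcomp (Nat.le_succ (m + i)) (Nat.le_add_left i m) _).symm.trans
    (congrArg (t (Nat.le_add_left i m)) (hL (m + i) (p i)))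

include hcomp hself hsurj hker in
theorem exists_sum_compatible {q : ℕ} (g : Fin q → R) (m : ℕ) (hg : Ideal.span (Set.range g) = K ^ (m + 1))
    (v : ∀ i, S i) (hv : ∀ i, t (Nat.le_succ i) (v (i + 1)) = v i) (hm : v m = 0) :
    ∃ w : Fin q → ∀ i, S i, (∀ j i, t (Nat.le_succ i) (w j (i + 1)) = w j i) ∧ ∀ i, ∑ j, g j • w j i = v i := by
  classical
  have hvle : ∀ {a b : ℕ} (h : a ≤ b), t h (v b) = v a := by
    intro a b h
    induction b, h using Nat.le_induction with
    | base => exact hself _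
    | succ b hb ih => exact ((hcomp (Nat.le_succ b) hb _).symm.trans (congrArg (t hb) (hv b))).trans ih
  have hzero : ∀ {a b : ℕ} (h : a ≤ b) (x : S b), x ∈ K ^ (a + 1) • (⊤ : Submodule R (S b)) → t h x = 0 :=
    fun h x => (hker h x).2
  have base : ∃ u : Fin q → S (m + 1 + 0), ∑ j, g j • u j = v (m + 1 + 0) := by
    have h0 := (hker (show m ≤ m + 1 + 0 by omega) (v (m + 1 + 0))).1 ((hvle _).trans hm)
    rw [← hg] at h0
    obtain ⟨u, -, hu⟩ := exists_sum_of_mem_span_smul g ⊤ h0
    exact ⟨u, hu⟩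
  have step : ∀ i (u : Fin q → S (m + 1 + i)), ∑ j, g j • u j = v (m + 1 + i) →
      ∃ u' : Fin q → S (m + 1 + i + 1), ∑ j, g j • u' j = v (m + 1 + i + 1) ∧
        ∀ j, t (show i ≤ m + 1 + i + 1 by omega) (u' j) = t (show i ≤ m + 1 + i by omega) (u j) := by
    intro i u hu
    choose L hL using fun j => hsurj (m + 1 + i) (u j)
    have h0 : t (Nat.le_succ (m + 1 + i)) (v (m + 1 + i + 1) - ∑ j, g j • L j) = 0 := by
      rw [map_sub, map_sum, hv, ← hu, sub_eq_zero]
      exact Finset.sum_congr rfl fun j _ => by rw [map_smul, hL]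
    have h1 := (hker _ _).1 h0
    rw [show K ^ (m + 1 + i + 1) = K ^ (m + 1) * K ^ (i + 1) from (congrArg (K ^ ·) (show m + 1 + i + 1 = (m + 1) + (i + 1) by omega)).trans (pow_add K _ _), Submodule.mul_smul, ← hg] at h1
    obtain ⟨δ, hδ, hδs⟩ := exists_sum_of_mem_span_smul g _ h1
    refine ⟨fun j => L j + δ j, ?_, fun j => ?_⟩
    · simp only [smul_add, Finset.sum_add_distrib]
      rw [hδs, add_sub_cancel]
    · rw [map_add, hzero (show i ≤ m + 1 + i + 1 by omega) (δ j) (hδ j), add_zero]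
      exact (hcomp (Nat.le_succ (m + 1 + i)) (show i ≤ m + 1 + i by omega) _).symm.trans
        (congrArg (t _) (hL j))
  choose u₀ hu₀ using base
  choose next hnext hnext' using step
  let U : ∀ i, { u : Fin q → S (m + 1 + i) // ∑ j, g j • u j = v (m + 1 + i) } := fun i =>
    Nat.rec (motive := fun i => { u : Fin q → S (m + 1 + i) // ∑ j, g j • u j = v (m + 1 + i) })
      ⟨u₀, hu₀⟩ (fun i u => ⟨next i u.1 u.2, hnext i u.1 u.2⟩) i
  refine ⟨fun j i => t (show i ≤ m + 1 + i by omega) ((U i).1 j), fun j i => ?_, fun i => ?_⟩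
  · exact (hcomp _ _ _).trans (hnext' i (U i).1 (U i).2 j)
  · rw [← hvle (show i ≤ m + 1 + i by omega), ← (U i).2, map_sum]
    exact Finset.sum_congr rfl fun j _ => (map_smul _ _ _).symm

end tower

section stalks

variable {A : Type u} [CommRing A] {X : Scheme.{u}} [X.Over (Spec (CommRingCat.of A))]
variable {I : Ideal A} (G : ℕᵒᵖ ⥤ X.Modules) (hG : Formal.IsCohFormal I G) (y : X)

theorem toStalk_eq : Algz.toStalk A X y = toStalk A y := rfl

theorem stalkMapₗ_eq {M N : X.Modules} (φ : M ⟶ N) : Algz.stalkMapₗ φ y = stalkLin φ y := by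
  refine LinearMap.ext fun e => ?_
  obtain ⟨U, hU, s, rfl⟩ := TopCat.Presheaf.exists_germ_eq M.presheaf e
  rw [QCoh.stalkLin_germ]
  exact TopCat.Presheaf.stalkFunctor_map_germ_apply U y hU (Scheme.Modules.Hom.mapPresheaf φ) s

/-- The transition maps on stalks. -/
abbrev sT {n m : ℕ} (h : n ≤ m) :
    (gob G m).presheaf.stalk y →ₗ[X.presheaf.stalk y] (gob G n).presheaf.stalk y := stalkLin (gdn G h) y

theorem sT_comp {m n k : ℕ} (h₁ : n ≤ m) (h₂ : k ≤ n) (x : (gob G m).presheaf.stalk y) :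
    sT G y h₂ (sT G y h₁ x) = sT G y (h₂.trans h₁) x := by
  rw [← QCoh.stalkLin_comp, gdn_comp]

theorem sT_self {n : ℕ} (x : (gob G n).presheaf.stalk y) : sT G y (le_refl n) x = x := by
  show stalkLin (gdn G (le_refl n)) y x = x
  rw [gdn_self]
  exact LinearMap.congr_fun (congrArg ModuleCat.Hom.hom ((OX.stalk y).map_id (gob G n))) x

include hG

theorem sT_surjective {n m : ℕ} (h : n ≤ m) : Function.Surjective (sT G y h) := by
  haveI : Epi (gdn G h) := (isQuot_map hG h).epi
  exact QCoh.stalkLin_surjective _ y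

theorem sT_eq_zero_iff {n m : ℕ} (h : n ≤ m) (x : (gob G m).presheaf.stalk y) :
    sT G y h x = 0 ↔ x ∈ Algz.stalkIdeal I y ^ (n + 1) •
      (⊤ : Submodule (X.presheaf.stalk y) ((gob G m).presheaf.stalk y)) := by
  rw [← LinearMap.mem_ker, ker_stalkLin_of_isQuot (isQuot_map hG h) y, Algz.stalkIdeal, ← Ideal.map_pow]
  rfl

theorem killed (m : ℕ) : Algz.stalkIdeal I y ^ (m + 1) •
    (⊤ : Submodule (X.presheaf.stalk y) ((gob G m).presheaf.stalk y)) = ⊥ :=
  (Submodule.eq_bot_iff _).2 fun x hx => (sT_self G y x).symm.trans ((sT_eq_zero_iff G hG y (le_refl m) x).2 hx)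

theorem of_bijective (m : ℕ) :
    Function.Bijective (AdicCompletion.of (Algz.stalkIdeal I y) ((gob G m).presheaf.stalk y)) := by
  have hk := killed G hG y m
  have hbot : ∀ n, m + 1 ≤ n → (Algz.stalkIdeal I y ^ n •
      (⊤ : Submodule (X.presheaf.stalk y) ((gob G m).presheaf.stalk y))) = ⊥ := fun n hn =>
    le_bot_iff.1 ((Submodule.smul_mono_left (Ideal.pow_le_pow_right hn)).trans hk.le)
  refine ⟨fun a b h => ?_, fun x => ?_⟩
  · have h1 := congrArg (fun z => z.val (m + 1)) h
    simp only [AdicCompletion.of_apply] at h1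
    have h2 := (Submodule.Quotient.eq _).1 h1
    rw [hk, Submodule.mem_bot, sub_eq_zero] at h2
    exact h2
  · obtain ⟨a, ha⟩ := Submodule.Quotient.mk_surjective _ (x.val (m + 1))
    refine ⟨a, AdicCompletion.ext fun {n} => ?_⟩
    rw [AdicCompletion.of_apply]
    rcases Nat.le_total n (m + 1) with hn | hn
    · rw [← x.property hn, ← ha]
      rfl
    · obtain ⟨b, hb⟩ := Submodule.Quotient.mk_surjective _ (x.val n)
      have h1 : Submodule.Quotient.mk b = x.val (m + 1) := by
        rw [← x.property hn, ← hb]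
        rfl
      rw [← ha, Submodule.Quotient.eq, hk, Submodule.mem_bot, sub_eq_zero] at h1
      rw [← hb, h1]
      rfl

/-- A component of a completed stalk as an element of the stalk. -/
def proj (m : ℕ) : ↥(Algz.hatStalk I G y) →+ (gob G m).presheaf.stalk y where
  toFun x := (LinearEquiv.ofBijective _ (of_bijective G hG y m)).symm (x.1 m)
  map_zero' := map_zero (LinearEquiv.ofBijective _ (of_bijective G hG y m)).symm
  map_add' a b := map_add (LinearEquiv.ofBijective _ (of_bijective G hG y m)).symm (a.1 m) (b.1 m)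

theorem of_proj (m : ℕ) (x : ↥(Algz.hatStalk I G y)) :
    AdicCompletion.of (Algz.stalkIdeal I y) ((gob G m).presheaf.stalk y) (proj G hG y m x) = x.1 m :=
  (LinearEquiv.ofBijective _ (of_bijective G hG y m)).apply_symm_apply (x.1 m)

theorem proj_smul (m : ℕ) (r : X.presheaf.stalk y) (x : ↥(Algz.hatStalk I G y)) :
    proj G hG y m (algebraMap (X.presheaf.stalk y) (Algz.hatRing I y) r • x) = r • proj G hG y m x := by
  refine (of_bijective G hG y m).1 ?_
  rw [of_proj, map_smul, of_proj, Submodule.coe_smul, Pi.smul_apply, algebraMap_smul]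

theorem proj_compat (i : ℕ) (x : ↥(Algz.hatStalk I G y)) :
    sT G y (Nat.le_succ i) (proj G hG y (i + 1) x) = proj G hG y i x := by
  refine (of_bijective G hG y i).1 ?_
  rw [of_proj, ← x.2 i, ← of_proj G hG y (i + 1) x]
  show _ = AdicCompletion.map _ (Algz.stalkMapₗ (gdn G (Nat.le_succ i)) y) _
  rw [AdicCompletion.map_of, stalkMapₗ_eq]

theorem exists_elt (v : ∀ i, (gob G i).presheaf.stalk y) (hv : ∀ i, sT G y (Nat.le_succ i) (v (i + 1)) = v i) :
    ∃ x : ↥(Algz.hatStalk I G y), ∀ i, proj G hG y i x = v i := by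
  refine ⟨⟨fun i => AdicCompletion.of _ _ (v i), fun i => ?_⟩, fun i => (of_bijective G hG y i).1 (of_proj G hG y i _)⟩
  show AdicCompletion.map _ (Algz.stalkMapₗ (gdn G (Nat.le_succ i)) y) _ = _
  rw [AdicCompletion.map_of, stalkMapₗ_eq]
  exact congrArg _ (hv i)

theorem proj_surjective (m : ℕ) : Function.Surjective (proj G hG y m) := fun z => by
  obtain ⟨v, hv, hz⟩ := exists_compatible (fun {n m} h => sT G y h) (fun h₁ h₂ x => sT_comp G y h₁ h₂ x)
    (fun x => sT_self G y x) (fun n => sT_surjective G hG y (Nat.le_succ n)) m z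
  obtain ⟨x, hx⟩ := exists_elt G hG y v hv
  exact ⟨x, (hx m).trans hz⟩

theorem mem_of_proj_eq_zero [IsNoetherianRing (X.presheaf.stalk y)] (m : ℕ) (x : ↥(Algz.hatStalk I G y))
    (hx : proj G hG y m x = 0) :
    x ∈ Algz.hatIdeal I y ^ (m + 1) • (⊤ : Submodule (Algz.hatRing I y) ↥(Algz.hatStalk I G y)) := by
  obtain ⟨q, g, hg⟩ := Submodule.fg_iff_exists_fin_generating_family.1
    (IsNoetherian.noetherian (Algz.stalkIdeal I y ^ (m + 1) : Ideal (X.presheaf.stalk y)))
  obtain ⟨w, hw, hws⟩ := exists_sum_compatible (Algz.stalkIdeal I y) (fun {n m} h => sT G y h)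
    (fun h₁ h₂ x => sT_comp G y h₁ h₂ x) (fun x => sT_self G y x)
    (fun n => sT_surjective G hG y (Nat.le_succ n)) (fun h x => sT_eq_zero_iff G hG y h x) g m hg
    (fun i => proj G hG y i x) (fun i => proj_compat G hG y i x) hx
  choose e he using fun j => exists_elt G hG y (w j) (hw j)
  have hsum : x = ∑ j, algebraMap (X.presheaf.stalk y) (Algz.hatRing I y) (g j) • e j := by
    refine Subtype.ext (funext fun i => ?_)
    rw [← of_proj G hG y i x, ← of_proj G hG y i, map_sum]
    simp only [proj_smul, he, hws]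
  rw [hsum, Algz.hatIdeal, ← Ideal.map_pow]
  exact sum_mem fun j _ => Submodule.smul_mem_smul (Ideal.mem_map_of_mem _ (hg ▸ Ideal.subset_span (Set.mem_range_self j))) trivial

theorem proj_mem (m : ℕ) {x : ↥(Algz.hatStalk I G y)}
    (hx : x ∈ Algz.hatIdeal I y • (⊤ : Submodule (Algz.hatRing I y) ↥(Algz.hatStalk I G y))) :
    proj G hG y m x ∈ Algz.stalkIdeal I y •
      (⊤ : Submodule (X.presheaf.stalk y) ((gob G m).presheaf.stalk y)) := by
  rw [Algz.hatIdeal, Ideal.map] at hx
  refine Submodule.smul_induction_on hx (fun c hc v _ => ?_) fun a b ha hb => ?_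
  · induction hc using Submodule.span_induction generalizing v with
    | mem c hc =>
      obtain ⟨r, hr, rfl⟩ := hc
      rw [proj_smul]
      exact Submodule.smul_mem_smul hr trivial
    | zero => rw [zero_smul, map_zero]; exact zero_mem _
    | add a b _ _ ha hb => rw [add_smul, map_add]; exact add_mem (ha v trivial) (hb v trivial)
    | smul d c _ hc => rw [smul_eq_mul, mul_comm, mul_smul]; exact hc (d • v) trivial
  · rw [map_add]; exact add_mem ha hb

/-- The condition on the completed stalk gives the one on the stalks of the terms. -/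
theorem coeff_mem [IsNoetherianRing (X.presheaf.stalk y)] (n : ℕ) {N : ℕ} (a : Fin N → A)
    (hspan : Ideal.span (Set.range fun k => toStalk A y (a k)) = Algz.stalkIdeal I y ^ (n + 1))
    (hq : ∀ w : Fin N → ↥(Algz.hatStalk I G y),
      ∑ k, algebraMap (X.presheaf.stalk y) (Algz.hatRing I y) (toStalk A y (a k)) • w k = 0 →
        ∀ k, w k ∈ Algz.hatIdeal I y • (⊤ : Submodule (Algz.hatRing I y) ↥(Algz.hatStalk I G y)))
    (z : Fin N → (gob G (n + 1)).presheaf.stalk y) (hz : ∑ k, toStalk A y (a k) • z k = 0) (k : Fin N) :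
    z k ∈ Algz.stalkIdeal I y • (⊤ : Submodule (X.presheaf.stalk y) ((gob G (n + 1)).presheaf.stalk y)) := by
  choose w hw using fun k => proj_surjective G hG y (n + 1) (z k)
  let μ := algebraMap (X.presheaf.stalk y) (Algz.hatRing I y)
  have h0 : proj G hG y (n + 1) (∑ k, μ (toStalk A y (a k)) • w k) = 0 := by
    rw [map_sum]
    simp only [μ, proj_smul, hw, hz]
  have h1 := mem_of_proj_eq_zero G hG y (n + 1) _ h0
  rw [pow_succ, Submodule.mul_smul, show Algz.hatIdeal I y ^ (n + 1) = Ideal.span (Set.range fun k => μ (toStalk A y (a k))) by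
    rw [Algz.hatIdeal, ← Ideal.map_pow, ← hspan, Ideal.map_span, ← Set.range_comp]; rfl] at h1
  obtain ⟨u, hu, hus⟩ := exists_sum_of_mem_span_smul _ _ h1
  have h2 := hq (w - u) (by
    simp only [Pi.sub_apply, smul_sub, Finset.sum_sub_distrib]
    rw [hus, sub_self]) k
  rw [← hw k, ← sub_add_cancel (w k) (u k)]
  exact proj_mem G hG y (n + 1) (add_mem h2 (hu k))

end stalks

end GrothLib.CanExt7
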