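import Groth.Agent.Lib.CanExt7.HatStalk
import Mathlib.RingTheory.Regular.RegularSequence
import Mathlib.RingTheory.Flat.EquationalCriterion

/-!
# Relations between products of a regular sequence, and over flat modules
-/

set_option autoImplicit false
set_option linter.unusedSectionVars false

universe u

noncomputable section

namespace GrothLib.CanExt7

open RingTheory.Sequence

theorem mem_of_sum_mem {T M : Type*} [CommRing T] [AddCommGroup M] [Module T M] {ι : Type*} [Fintype ι] (a : ι → T)
    (J : Ideal T) (m : ℕ) (hspan : Ideal.span (Set.range a) = J ^ m)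
    (h : ∀ z : ι → M, ∑ i, a i • z i = 0 → ∀ i, z i ∈ J • (⊤ : Submodule T M))
    (z : ι → M) (hz : ∑ i, a i • z i ∈ J ^ (m + 1) • (⊤ : Submodule T M)) (i : ι) :
    z i ∈ J • (⊤ : Submodule T M) := by
  rw [pow_succ, Submodule.mul_smul, ← hspan] at hz
  obtain ⟨v, hv, hvs⟩ := exists_sum_of_mem_span_smul _ _ hz
  have h1 := h (z - v) (by simp only [Pi.sub_apply, smul_sub, Finset.sum_sub_distrib, hvs, sub_self]) i
  rw [← sub_add_cancel (z i) (v i)]
  exact add_mem h1 (hv i)

/-- The products of degree `n` in a weakly regular sequence are independent modulo the ideal it generates. -/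
theorem exists_words : ∀ (d n : ℕ), ∃ (N : ℕ) (w : Fin N → List (Fin d)),
    ∀ (T : Type u) [CommRing T] (f : Fin d → T),
      Ideal.span (Set.range fun k => ((w k).map f).prod) = Ideal.span (Set.range f) ^ n ∧
      ∀ (M : Type u) [AddCommGroup M] [Module T M], IsWeaklyRegular M (List.ofFn f) →
        ∀ z : Fin N → M, ∑ k, ((w k).map f).prod • z k = 0 →
          ∀ k, z k ∈ Ideal.span (Set.range f) • (⊤ : Submodule T M) := by
  intro d
  induction d with
  | zero =>
    intro n
    cases n with
    | zero =>
      refine ⟨1, fun _ => [], fun T _ f => ⟨by simp, fun M _ _ _ z hz k => ?_⟩⟩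
      simp only [List.map_nil, List.prod_nil, one_smul, Fin.sum_univ_one] at hz
      rw [Subsingleton.elim k 0, hz]; exact zero_mem _
    | succ n =>
      refine ⟨0, Fin.elim0, fun T _ f => ⟨?_, fun M _ _ _ z _ k => k.elim0⟩⟩
      simp only [Set.range_eq_empty, Ideal.span_empty]
      rw [pow_succ, Ideal.mul_bot]
  | succ d ih =>
    intro n
    induction n with
    | zero =>
      refine ⟨1, fun _ => [], fun T _ f => ⟨by simp, fun M _ _ _ z hz k => ?_⟩⟩
      simp only [List.map_nil, List.prod_nil, one_smul, Fin.sum_univ_one] at hz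
      rw [Subsingleton.elim k 0, hz]; exact zero_mem _
    | succ n ihn =>
      obtain ⟨N₁, w₁, h₁⟩ := ih (n + 1)
      obtain ⟨N₂, w₂, h₂⟩ := ihn
      let w : Fin (N₁ + N₂) → List (Fin (d + 1)) :=
        Fin.append (fun k => (w₁ k).map Fin.castSucc) (fun k => Fin.last d :: w₂ k)
      refine ⟨N₁ + N₂, w, fun T _ f => ?_⟩
      let g : Fin d → T := fun i => f i.castSucc
      let x : T := f (Fin.last d)
      let J' := Ideal.span (Set.range g)
      let J := Ideal.span (Set.range f)
      have hJ' : J' ≤ J := Ideal.span_mono (by rintro _ ⟨i, rfl⟩; exact ⟨_, rfl⟩)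
      have hx : x ∈ J := Ideal.subset_span ⟨_, rfl⟩
      have hJ : J = Ideal.span {x} ⊔ J' := by
        refine le_antisymm (Ideal.span_le.2 ?_) (sup_le ((Ideal.span_singleton_le_iff_mem J).2 hx) hJ')
        rintro _ ⟨i, rfl⟩
        induction i using Fin.lastCases with
        | last => exact Ideal.mem_sup_left (Ideal.mem_span_singleton_self _)
        | cast i => exact Ideal.mem_sup_right (Ideal.subset_span ⟨i, rfl⟩)
      have hl : ∀ k, ((w (Fin.castAdd N₂ k)).map f).prod = ((w₁ k).map g).prod := fun k => by
        simp only [w, Fin.append_left, List.map_map]; rfl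
      have hr : ∀ k, ((w (Fin.natAdd N₁ k)).map f).prod = x * ((w₂ k).map f).prod := fun k => by
        simp only [w, Fin.append_right, List.map_cons, List.prod_cons]; rfl
      have hspan : Ideal.span (Set.range fun k => ((w k).map f).prod) = J ^ (n + 1) := by
        have hr₂ : Ideal.span (Set.range fun k => x * ((w₂ k).map f).prod) = Ideal.span {x} * J ^ n := by
          rw [← (h₂ T f).1, Ideal.span_mul_span', Set.singleton_mul, ← Set.range_comp]; rfl
        have hsum : (Set.range fun k => ((w k).map f).prod) =
            (Set.range fun k => ((w₁ k).map g).prod) ∪ Set.range fun k => x * ((w₂ k).map f).prod := by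
          ext t; constructor
          · rintro ⟨k, rfl⟩
            induction k using Fin.addCases with
            | left k => exact Or.inl ⟨k, (hl k).symm⟩
            | right k => exact Or.inr ⟨k, (hr k).symm⟩
          · rintro (⟨k, rfl⟩ | ⟨k, rfl⟩)
            exacts [⟨_, hl k⟩, ⟨_, hr k⟩]
        rw [hsum, Ideal.span_union, (h₁ T g).1, hr₂]
        refine le_antisymm (sup_le (Ideal.pow_right_mono hJ' _) ?_) ?_
        · rw [pow_succ']; exact Ideal.mul_mono_left ((Ideal.span_singleton_le_iff_mem J).2 hx)
        · have key : ∀ m, J ^ (m + 1) ≤ J' ^ (m + 1) ⊔ Ideal.span {x} * J ^ m := by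
            intro m
            induction m with
            | zero => rw [zero_add, pow_one, pow_one, pow_zero, mul_one, hJ, sup_comm]
            | succ m ihm =>
              rw [pow_succ' J (m + 1)]
              conv_lhs => arg 1; rw [hJ]
              rw [Submodule.sup_mul]
              refine sup_le le_sup_right ((Ideal.mul_mono_right ihm).trans ?_)
              rw [Submodule.mul_sup]
              refine sup_le (le_sup_of_le_left (pow_succ' J' (m + 1)).ge) (le_sup_of_le_right ?_)
              rw [← mul_assoc, mul_comm J' (Ideal.span {x}), mul_assoc, pow_succ' J m]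
              exact Ideal.mul_mono_right (Ideal.mul_mono_left hJ')
          exact key n
      refine ⟨hspan, fun M _ _ hreg z hz => ?_⟩
      have hof : List.ofFn f = List.ofFn g ++ [x] := by rw [List.ofFn_succ', List.concat_eq_append]
      rw [hof, isWeaklyRegular_append_iff] at hreg
      obtain ⟨hg, hxr⟩ := hreg
      rw [isWeaklyRegular_singleton_iff] at hxr
      have hx1 : ∀ v : M, x • v ∈ J' • (⊤ : Submodule T M) → v ∈ J' • (⊤ : Submodule T M) := fun v hv => by
        rw [show J' = Ideal.ofList (List.ofFn g) from congrArg Ideal.span (Set.ext fun t => List.mem_ofFn.symm)] at hv ⊢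
        rw [← Submodule.Quotient.mk_eq_zero] at hv ⊢
        rw [Submodule.Quotient.mk_smul] at hv
        exact hxr.right_eq_zero_of_smul hv
      have hxm : ∀ (m : ℕ) (v : M), x • v ∈ J' ^ m • (⊤ : Submodule T M) → v ∈ J' ^ m • (⊤ : Submodule T M) := by
        intro m
        induction m with
        | zero => intro v _; rw [pow_zero, Submodule.one_smul]; trivial
        | succ m ihm =>
          intro v hv
          obtain ⟨N, wm, hwm⟩ := ih m
          obtain ⟨hs, hind⟩ := hwm T g
          have hvm := ihm v (Submodule.smul_mono_left (Ideal.pow_le_pow_right (Nat.le_succ m)) hv)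
          rw [← hs] at hvm
          obtain ⟨u, -, hu⟩ := exists_sum_of_mem_span_smul _ _ hvm
          have hxu := fun k => mem_of_sum_mem _ J' m hs (hind M hg) (fun k => x • u k) (by
            rw [← hu, Finset.smul_sum] at hv
            simpa only [smul_comm x] using hv) k
          rw [← hu, pow_succ, Submodule.mul_smul]
          exact sum_mem fun k _ => Submodule.smul_mem_smul (hs ▸ Ideal.subset_span (Set.mem_range_self k))
            (hx1 _ (hxu k))
      rw [Fin.sum_univ_add] at hz
      simp only [hl, hr, mul_smul, ← Finset.smul_sum] at hz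
      obtain ⟨hs₁, hind₁⟩ := h₁ T g
      have hy : (∑ k, ((w₂ k).map f).prod • z (Fin.natAdd N₁ k)) ∈ J' ^ (n + 1) • (⊤ : Submodule T M) := by
        refine hxm _ _ ?_
        rw [eq_neg_of_add_eq_zero_right hz, ← hs₁]
        exact neg_mem (sum_mem fun k _ => Submodule.smul_mem_smul (Ideal.subset_span (Set.mem_range_self k)) trivial)
      have hz₂ := mem_of_sum_mem _ J n (h₂ T f).1 ((h₂ T f).2 M (by
        rw [hof, isWeaklyRegular_append_iff, isWeaklyRegular_singleton_iff]; exact ⟨hg, hxr⟩)) _
        (Submodule.smul_mono_left (Ideal.pow_right_mono hJ' (n + 1)) hy)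
      rw [← hs₁] at hy
      obtain ⟨v, -, hv⟩ := exists_sum_of_mem_span_smul _ _ hy
      have hz₁ := hind₁ M hg (fun k => z (Fin.castAdd N₂ k) + x • v k) (by
        rw [← hz, ← hv, Finset.smul_sum, ← Finset.sum_add_distrib]
        exact Finset.sum_congr rfl fun k _ => by rw [smul_add, smul_comm x])
      intro k
      induction k using Fin.addCases with
      | left k =>
        rw [← add_sub_cancel_right (z (Fin.castAdd N₂ k)) (x • v k)]
        exact sub_mem (Submodule.smul_mono_left hJ' (hz₁ k)) (Submodule.smul_mem_smul hx trivial)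
      | right k => exact hz₂ k

/-- Minimal generators of a power of the maximal ideal only have relations with coefficients in it. -/
theorem exists_minimal_generators {R : Type u} [CommRing R] [IsNoetherianRing R] [IsLocalRing R] (m : ℕ) :
    ∃ (N : ℕ) (b : Fin N → R), Ideal.span (Set.range b) = IsLocalRing.maximalIdeal R ^ m ∧
      ∀ r : Fin N → R, ∑ k, b k * r k = 0 → ∀ k, r k ∈ IsLocalRing.maximalIdeal R := by
  classical
  have hex : ∃ N, ∃ b : Fin N → R, Ideal.span (Set.range b) = IsLocalRing.maximalIdeal R ^ m := by
    obtain ⟨N, b, hb⟩ := Submodule.fg_iff_exists_fin_generating_family.1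
      (IsNoetherian.noetherian (IsLocalRing.maximalIdeal R ^ m : Ideal R))
    exact ⟨N, b, hb⟩
  obtain ⟨b, hb⟩ := Nat.find_spec hex
  refine ⟨_, b, hb, fun r hr k => by_contra fun hk => ?_⟩
  obtain ⟨N', hN'⟩ : ∃ N', Nat.find hex = N' + 1 := ⟨Nat.find hex - 1, by have := k.pos; omega⟩
  refine Nat.find_min hex (show N' < Nat.find hex by omega) ?_
  let e := (finCongr hN').symm
  refine ⟨fun i => b (e (((finCongr hN') k).succAbove i)), le_antisymm ?_ ?_⟩
  · exact (Ideal.span_mono (by rintro _ ⟨i, rfl⟩; exact ⟨_, rfl⟩)).trans hb.le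
  · refine hb.ge.trans (Ideal.span_le.2 ?_)
    let S := Ideal.span (Set.range fun i => b (e (((finCongr hN') k).succAbove i)))
    have hne : ∀ j, j ≠ k → b j ∈ S := fun j hj => by
      obtain ⟨i, hi⟩ := Fin.exists_succAbove_eq (x := (finCongr hN') j) (y := (finCongr hN') k)
        (fun h => hj ((finCongr hN').injective h))
      refine Ideal.subset_span ⟨i, ?_⟩
      show b (e _) = b j
      rw [hi]; simp [e]
    rintro _ ⟨j, rfl⟩
    by_cases hj : j = k
    · subst hj
      have hu : IsUnit (r j) := by
        by_contra h; exact hk h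
      have hsplit := hr
      rw [← Finset.add_sum_erase _ _ (Finset.mem_univ j)] at hsplit
      have : b j * r j ∈ S := by
        rw [eq_neg_of_add_eq_zero_left hsplit]
        exact neg_mem (sum_mem fun i hi => S.mul_mem_right _ (hne i (Finset.ne_of_mem_erase hi)))
      exact (Ideal.mul_unit_mem_iff_mem S hu).1 this
    · exact hne j hj

/-- Over a flat module the minimal generators of a power of the maximal ideal are independent modulo it. -/
theorem mem_maximal_smul_of_flat {R M : Type u} [CommRing R] [IsLocalRing R] [AddCommGroup M] [Module R M]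
    [Module.Flat R M] {N : ℕ} (b : Fin N → R)
    (hb : ∀ r : Fin N → R, ∑ k, b k * r k = 0 → ∀ k, r k ∈ IsLocalRing.maximalIdeal R)
    (z : Fin N → M) (hz : ∑ k, b k • z k = 0) (k : Fin N) :
    z k ∈ IsLocalRing.maximalIdeal R • (⊤ : Submodule R M) := by
  obtain ⟨q, r, y, hy, hr⟩ := Module.Flat.isTrivialRelation_of_sum_smul_eq_zero hz
  rw [hy k]
  exact sum_mem fun j _ => Submodule.smul_mem_smul (hb (fun i => r i j) (hr j) k) trivial

end GrothLib.CanExt7
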