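import Groth.Agent.Lib.GenT7.GenLim

/-!
# The adic topology on limits of towers with graded finiteness, without completeness
-/

set_option autoImplicit false
set_option linter.unusedSectionVars false

universe u

noncomputable section

namespace GrothLib.CanExt7

open GrothLib.GenT7 GrothLib.GenT7.Gen

variable {A : Type u} [CommRing A] [IsNoetherianRing A] (J : Ideal A)
variable {S : ℕ → Type u} [∀ n, AddCommGroup (S n)] [∀ n, Module A (S n)] (g : ∀ n, S (n + 1) →ₗ[A] S n)

/-- Successive approximation in a limit: the approximations converge for any noetherian base. -/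
theorem mem_of_steps {l : ℕ} (z₀ : Fin l → limSys g) (R : ℕ)
    (hle : ∀ n m, n ≤ m → ∀ z, projSys g m z = 0 → projSys g n z = 0)
    (hzero : ∀ (k : ℕ) (a : A), a ∈ J ^ k → ∀ i, projSys g (R + k) (a • z₀ i) = 0)
    (hstep : ∀ (k : ℕ) (z : limSys g), projSys g (R + k) z = 0 →
      ∃ c : Fin l → A, (∀ i, c i ∈ J ^ k) ∧ projSys g (R + k + 1) (z - ∑ i, c i • z₀ i) = 0)
    (k : ℕ) (z : limSys g) (hz : projSys g (R + k) z = 0) :
    z ∈ J ^ k • (⊤ : Submodule A (limSys g)) := by
  classical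
  obtain ⟨N, gg, hgg⟩ :=
    Submodule.fg_iff_exists_fin_generating_family.1 (IsNoetherian.noetherian (J ^ k : Ideal A))
  choose! cs hcs hcs' using hstep
  let w : ℕ → limSys g := fun i => Nat.rec z (fun i v => v - ∑ j, cs (k + i) v j • z₀ j) i
  have hw : ∀ i, projSys g (R + (k + i)) (w i) = 0 := fun i => by
    induction i with
    | zero => exact hz
    | succ i ih => exact hcs' (k + i) (w i) ih
  have hb : ∀ i j, ∃ b : Fin N → A, (∀ e, b e ∈ J ^ i) ∧ ∑ e, b e * gg e = cs (k + i) (w i) j := fun i j => by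
    have hm : cs (k + i) (w i) j ∈ J ^ i • Submodule.span A (Set.range gg) := by
      rw [hgg, smul_eq_mul, ← pow_add, Nat.add_comm i k]
      exact hcs (k + i) (w i) (hw i) j
    obtain ⟨a, ha, e⟩ := (Submodule.mem_ideal_smul_span_iff_exists_sum (J ^ i) gg _).1 hm
    exact ⟨fun e => a e, ha, (Finsupp.sum_fintype a _ fun i => zero_smul A (gg i)).symm.trans e⟩
  choose b hb hbs using hb
  have hu : ∀ e, ∃ v : limSys g, ∀ n,
      projSys g n v = ∑ i ∈ Finset.range (n + 1), ∑ j, b i j e • projSys g n (z₀ j) := fun e => by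
    refine exists_mem g _ fun n => ?_
    rw [map_sum]
    simp only [map_sum, map_smul, projSys_map]
    rw [Finset.sum_range_succ _ (n + 1), Finset.sum_eq_zero (s := Finset.univ) fun j _ => ?_, add_zero]
    rw [← map_smul]
    exact hle n (R + (n + 1)) (by omega) _ (hzero (n + 1) _ (hb (n + 1) j e) j)
  choose v hv using hu
  have hwsum : ∀ i, w i = z - ∑ e ∈ Finset.range i, ∑ j, cs (k + e) (w e) j • z₀ j := fun i => by
    induction i with
    | zero => simp [w]
    | succ i ih => rw [Finset.sum_range_succ, ← sub_sub, ← ih]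
  have hz' : z = ∑ e, gg e • v e := by
    refine sub_eq_zero.1 (limSys_ext g fun n => ?_)
    rw [map_zero]
    have h1 := hle n (R + (k + (n + 1))) (by omega) _ (hw (n + 1))
    rw [hwsum (n + 1), map_sub, sub_eq_zero] at h1
    rw [map_sub, sub_eq_zero, h1, map_sum]
    simp only [map_sum, map_smul, hv, Finset.smul_sum, smul_smul]
    rw [eq_comm, Finset.sum_comm]
    refine Finset.sum_congr rfl fun i _ => ?_
    rw [Finset.sum_comm]
    refine Finset.sum_congr rfl fun j _ => ?_
    rw [← Finset.sum_smul, ← hbs i j]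
    exact congrArg (· • projSys g n (z₀ j)) (Finset.sum_congr rfl fun e _ => mul_comm _ _)
  rw [hz']
  exact sum_mem fun e _ => Submodule.smul_mem_smul (hgg ▸ Submodule.subset_span (Set.mem_range_self e)) trivial

section leading

variable (dn : ∀ {m n : ℕ}, n ≤ m → (S m →ₗ[A] S n))
  (hcomp : ∀ {m n k : ℕ} (h₁ : n ≤ m) (h₂ : k ≤ n) (x : S m), dn h₂ (dn h₁ x) = dn (h₂.trans h₁) x)
  (hself : ∀ {n : ℕ} (x : S n), dn (le_refl n) x = x)
  {d : ℕ} (inK : ∀ n (a : Fin d → A), (∀ j, a j ∈ J ^ (n + 1)) → S (n + 1))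
  (hadd : ∀ n a a' ha ha', inK n (a + a') (fun j => Submodule.add_mem _ (ha j) (ha' j)) = inK n a ha + inK n a' ha')
  (hsmul : ∀ n (r : A) a ha, inK n (r • a) (fun j => Ideal.mul_mem_left _ r (ha j)) = r • inK n a ha)
  (hker : ∀ n y, dn (Nat.le_succ n) y = 0 ↔ ∃ a ha, inK n a ha = y)
  (hzero : ∀ n k (g : A), g ∈ J ^ k → ∀ x : S (n + k), dn (Nat.le_add_right n k) x = 0 → g • x = 0)
  (hmulK : ∀ n k (g : A), g ∈ J ^ k → ∀ (x : S (n + k + 1)) a ha (hga : ∀ j, g * a j ∈ J ^ (n + k + 1)),
    dn (show n + 1 ≤ n + k + 1 by omega) x = inK n a ha → g • x = inK (n + k) (g • a) hga)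

include hcomp hself hadd hsmul hker hzero hmulK in
/-- The projection filtration of the compatible families is cofinal with the adic one. -/
theorem topology_limSys :
    ∃ R, ∀ k z, projSys (step @dn) (R + k) z = 0 → z ∈ J ^ k • (⊤ : Submodule A (limSys (step @dn))) := by
  classical
  have hmem : ∀ n k (g : A), g ∈ J ^ k → ∀ z : limSys (step @dn), projSys (step @dn) n z = 0 →
      projSys (step @dn) (n + k) (g • z) = 0 := fun n k g hg z hz => by
    rw [map_smul]
    exact hzero n k g hg _ ((proj_le @dn @hcomp @hself _ z).trans hz)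
  have hmem' : ∀ n k (g : A), g ∈ J ^ k → ∀ (z : limSys (step @dn)) a ha
      (hga : ∀ j, g * a j ∈ J ^ (n + k + 1)), projSys (step @dn) (n + 1) z = inK n a ha →
      projSys (step @dn) (n + k + 1) (g • z) = inK (n + k) (g • a) hga := fun n k g hg z a ha hga hz => by
    rw [map_smul]
    exact hmulK n k g hg _ a ha hga ((proj_le @dn @hcomp @hself _ z).trans hz)
  obtain ⟨R, hR⟩ := exists_gen J (lead J @dn inK hadd hsmul)
    (fun n a ⟨ha, _⟩ j => Ideal.pow_le_pow_right (Nat.le_succ n) (ha j))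
    (fun n k g hg a ⟨ha, z, hz, hz1⟩ => by
      have hga : ∀ j, g * a j ∈ J ^ (n + k + 1) := fun j => by
        rw [show n + k + 1 = k + (n + 1) by omega, pow_add]
        exact Ideal.mul_mem_mul hg (ha j)
      exact ⟨hga, g • z, hmem n k g hg z hz, hmem' n k g hg z a ha hga hz1⟩)
  obtain ⟨l, a₀, ha₀⟩ :=
    Submodule.fg_iff_exists_fin_generating_family.1 (IsNoetherian.noetherian (lead J @dn inK hadd hsmul R))
  choose haR z₀ hz₀ hz₀' using fun i : Fin l => (ha₀ ▸ Submodule.subset_span (Set.mem_range_self i) :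
    a₀ i ∈ lead J @dn inK hadd hsmul R)
  have hterm : ∀ k (c : A), c ∈ J ^ k → ∀ i j, c * a₀ i j ∈ J ^ (R + k + 1) := fun k c hc i j => by
    rw [show R + k + 1 = k + (R + 1) by omega, pow_add]
    exact Ideal.mul_mem_mul hc (haR i j)
  have hcomb : ∀ k (c : Fin l → A), (∀ i, c i ∈ J ^ k) → ∀ (s : Finset (Fin l))
      (hs : ∀ j, (∑ i ∈ s, c i • a₀ i) j ∈ J ^ (R + k + 1)),
      inK (R + k) (∑ i ∈ s, c i • a₀ i) hs = ∑ i ∈ s, projSys (step @dn) (R + k + 1) (c i • z₀ i) := by
    intro k c hc s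
    induction s using Finset.induction with
    | empty =>
      intro hs
      have := hsmul (R + k) 0 0 (fun _ => zero_mem _)
      simp only [zero_smul, smul_zero] at this
      simp only [Finset.sum_empty, this]
    | insert i s his ih =>
      intro hs
      have hs' : ∀ j, (∑ i ∈ s, c i • a₀ i) j ∈ J ^ (R + k + 1) := fun j => by
        rw [Finset.sum_apply]
        exact sum_mem fun i' _ => hterm k (c i') (hc i') i' j
      simp only [Finset.sum_insert his]
      rw [← ih hs', hmem' R k (c i) (hc i) (z₀ i) (a₀ i) (haR i) (hterm k (c i) (hc i) i) (hz₀' i), ← hadd]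
  refine ⟨R, mem_of_steps J (step @dn) z₀ R
    (fun n m h z hz => by rw [← proj_le @dn @hcomp @hself h, hz, map_zero])
    (fun k g hg i => hmem R k g hg (z₀ i) (hz₀ i)) fun k z hz => ?_⟩
  obtain ⟨a, ha, hA⟩ := (hker (R + k) (projSys (step @dn) (R + k + 1) z)).1
    ((projSys_map _ (R + k) z).trans hz)
  obtain ⟨c, hc, hca⟩ := (Submodule.mem_ideal_smul_span_iff_exists_sum (J ^ k) a₀ a).1
    (ha₀.symm ▸ hR k ⟨ha, z, hz, hA.symm⟩)
  replace hca : ∑ i, c i • a₀ i = a :=
    (Finsupp.sum_fintype c _ fun i => zero_smul A (a₀ i)).symm.trans hca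
  subst hca
  refine ⟨fun i => c i, hc, ?_⟩
  rw [map_sub, map_sum, ← hcomb k (fun i => c i) hc Finset.univ ha, hA, sub_self]

end leading

end GrothLib.CanExt7
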