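import Groth.Agent.Lib.CanExt7.Criterion
import Groth.Agent.Lib.CanExt7.HatStalk
import Groth.Agent.Lib.GenT7.GenSplit
import Groth.Agent.Lib.GenT7.LocFreeRetract

/-!
# Canonical extension from free associated graded completed stalks
-/

set_option autoImplicit false
set_option linter.style.haveILetI false
set_option linter.unusedSectionVars false

universe u

open CategoryTheory CategoryTheory.Limits AlgebraicGeometry Opposite

noncomputable section

namespace GrothLib.CanExt7

open GrothLib.GenT7 GrothLib.GenT7.Gen GrothLib.FormalSys GrothLib.Cohom GrothLib.FormalFun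
open GrothLib.QCoh (stalkLin)

attribute [local instance] Abelian.hasFiniteBiproducts

variable {A : Type u} [CommRing A] [IsNoetherianRing A] {I : Ideal A}

theorem pow_top_of_not_le (U : (Spec (CommRingCat.of A)).Opens) (x : (U : Scheme.{u})) (h : ¬ I ≤ x.1.asIdeal) :
    Algz.stalkIdeal I x = ⊤ := by
  obtain ⟨a, ha, hax⟩ := SetLike.not_le_iff_exists.1 h
  exact Ideal.eq_top_of_isUnit_mem _ (Ideal.mem_map_of_mem (toStalk A x) ha) (isUnit_toStalk U x hax)

/-- Free associated graded stalks split the multiplication maps. -/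
theorem exists_split_of_coeff (U : (Spec (CommRingCat.of A)).Opens)
    (G : ℕᵒᵖ ⥤ (U : Scheme.{u}).Modules) (hG : Formal.IsCohFormal I G) (n : ℕ) {N : ℕ} (a : Fin N → A)
    (ha : ∀ k, a k ∈ I ^ (n + 1))
    (hspan : ∀ x : (U : Scheme.{u}), I ≤ x.1.asIdeal →
      Ideal.span (Set.range fun k => toStalk A x (a k)) = Algz.stalkIdeal I x ^ (n + 1))
    (hco : ∀ x : (U : Scheme.{u}), I ≤ x.1.asIdeal → ∀ z : Fin N → (gob G (n + 1)).presheaf.stalk x,
      ∑ k, toStalk A x (a k) • z k = 0 → ∀ k, z k ∈ Algz.stalkIdeal I x •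
        (⊤ : Submodule ((U : Scheme.{u}).presheaf.stalk x) ((gob G (n + 1)).presheaf.stalk x))) :
    ∃ (N : ℕ) (a : Fin N → A) (ha : ∀ i, a i ∈ I ^ (n + 1)) (σ : Fin N → (K G n ⟶ gob G 0)),
      ∑ i, σ i ≫ μ G hG n (ha i) = 𝟙 _ := by
  classical
  refine ⟨N, a, ha, ?_⟩
  let Φ : (⨁ fun _ : Fin N => gob G 0) ⟶ K G n := biproduct.desc fun k => μ G hG n (ha k)
  have hμι : ∀ (x : (U : Scheme.{u})) k (w : (gob G (n + 1)).presheaf.stalk x),
      stalkLin (kernel.ι (gdn G (Nat.le_succ n))) x (stalkLin (μ G hG n (ha k)) x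
        (sT G x (Nat.zero_le (n + 1)) w)) = toStalk A x (a k) • w := fun x k w => by
    rw [← QCoh.stalkLin_comp, μ_ι, ← QCoh.stalkLin_comp, Gen.dn_up, stalkLin_smulMod]
  have htop : ∀ (x : (U : Scheme.{u})), ¬ I ≤ x.1.asIdeal → ∀ (m : ℕ) (v : (gob G m).presheaf.stalk x), v = 0 :=
    fun x hx m v => by
      have h := killed G hG x m
      rw [pow_top_of_not_le U x hx, ← Ideal.one_eq_top, one_pow, Submodule.one_smul] at h
      exact (Submodule.mem_bot _).1 (h ▸ (Submodule.mem_top : v ∈ _))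
  haveI : Epi Φ := by
    refine (OX.epi_iff Φ).2 fun x => (ModuleCat.epi_iff_surjective _).2 fun v => ?_
    by_cases hx : I ≤ x.1.asIdeal
    · have h0 : sT G x (Nat.le_succ n) (stalkLin (kernel.ι (gdn G (Nat.le_succ n))) x v) = 0 := by
        rw [← QCoh.stalkLin_comp, kernel.condition, stalkLin_zero]
      rw [sT_eq_zero_iff G hG x, ← hspan x hx] at h0
      obtain ⟨u, -, hu⟩ := exists_sum_of_mem_span_smul _ _ h0
      refine ⟨∑ k, stalkLin (biproduct.ι (fun _ : Fin N => gob G 0) k) x (sT G x (Nat.zero_le (n + 1)) (u k)), ?_⟩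
      refine QCoh.stalkLin_injective (kernel.ι (gdn G (Nat.le_succ n))) x ?_
      show stalkLin (kernel.ι _) x (stalkLin Φ x _) = _
      refine (congrArg (stalkLin (kernel.ι _) x) (map_sum (stalkLin Φ x) _ _)).trans
        ((map_sum (stalkLin (kernel.ι _) x) _ _).trans (Eq.trans ?_ hu))
      refine Finset.sum_congr rfl fun k _ => ?_
      rw [← QCoh.stalkLin_comp (biproduct.ι _ k) Φ, biproduct.ι_desc, hμι]
    · refine ⟨0, QCoh.stalkLin_injective (kernel.ι (gdn G (Nat.le_succ n))) x ?_⟩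
      exact (htop x hx (n + 1) _).trans (htop x hx (n + 1) _).symm
  haveI : Mono Φ := by
    refine (OX.mono_iff Φ).2 fun x => (ModuleCat.mono_iff_injective _).2 ?_
    show Function.Injective (stalkLin Φ x)
    refine (injective_iff_map_eq_zero _).2 fun w hw => ?_
    have hid : w = ∑ k, stalkLin (biproduct.ι (fun _ : Fin N => gob G 0) k) x
        (stalkLin (biproduct.π (fun _ : Fin N => gob G 0) k) x w) := by
      simp only [← QCoh.stalkLin_comp]
      rw [← stalkLin_sum, biproduct.total]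
      exact (LinearMap.congr_fun (congrArg ModuleCat.Hom.hom ((OX.stalk x).map_id (⨁ fun _ : Fin N => gob G 0))) w).symm
    suffices h : ∀ k, stalkLin (biproduct.π (fun _ : Fin N => gob G 0) k) x w = 0 by
      rw [hid]; exact Finset.sum_eq_zero fun k _ => by rw [h k, map_zero]
    intro k
    by_cases hx : I ≤ x.1.asIdeal
    · choose z hz using fun k => sT_surjective G hG x (Nat.zero_le (n + 1))
        (stalkLin (biproduct.π (fun _ : Fin N => gob G 0) k) x w)
      have hw' : ∑ k, toStalk A x (a k) • z k = 0 := by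
        have h1 := congrArg (stalkLin (kernel.ι (gdn G (Nat.le_succ n))) x) hw
        rw [show Φ = biproduct.desc fun k => μ G hG n (ha k) from rfl, biproduct.desc_eq, stalkLin_sum,
          map_sum, map_zero] at h1
        simp only [QCoh.stalkLin_comp, ← hz, hμι] at h1
        exact h1
      rw [← hz k, sT_eq_zero_iff G hG x, zero_add, pow_one]
      exact hco x hx z hw' k
    · exact htop x hx 0 _
  haveI : IsIso Φ := isIso_of_mono_of_epi Φ
  refine ⟨fun k => inv Φ ≫ biproduct.π _ k, ?_⟩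
  simp only [Category.assoc]
  rw [← Preadditive.comp_sum, ← biproduct.desc_eq, IsIso.inv_hom_id]

/-- Canonical extension when the completed stalks have free associated graded modules. -/
theorem canonicallyExtends_of_coeff {𝔞 : Ideal A} (hI𝔞 : I ≤ 𝔞)
    (G : ℕᵒᵖ ⥤ (LocCoh.puncturedOpen A 𝔞 : Scheme.{u}).Modules) (hG : Formal.IsCohFormal I G)
    (h0 : Module.Finite A (Coh.HH (LocCoh.puncturedOpen A 𝔞 : Scheme.{u}) (gob G 0) 0))
    (h1 : Module.Finite A (Coh.HH (LocCoh.puncturedOpen A 𝔞 : Scheme.{u}) (gob G 0) 1))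
    (h : ∀ n : ℕ, ∃ (N : ℕ) (a : Fin N → A), (∀ k, a k ∈ I ^ (n + 1)) ∧
      ∀ x : (LocCoh.puncturedOpen A 𝔞 : Scheme.{u}), I ≤ x.1.asIdeal →
        Ideal.span (Set.range fun k => toStalk A x (a k)) = Algz.stalkIdeal I x ^ (n + 1) ∧
        ∀ w : Fin N → ↥(Algz.hatStalk I G x),
          ∑ k, algebraMap ((LocCoh.puncturedOpen A 𝔞 : Scheme.{u}).presheaf.stalk x) (Algz.hatRing I x)
            (toStalk A x (a k)) • w k = 0 →
          ∀ k, w k ∈ Algz.hatIdeal I x • (⊤ : Submodule (Algz.hatRing I x) ↥(Algz.hatStalk I G x))) :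
    Algz.CanonicallyExtends A I (LocCoh.puncturedOpen A 𝔞) G := by
  haveI := h0
  haveI := h1
  obtain ⟨d, e, he⟩ := Module.Finite.exists_fin (R := A)
    (M := Coh.HH (LocCoh.puncturedOpen A 𝔞 : Scheme.{u}) (gob G 0) 0)
  obtain ⟨b, c, hc⟩ := Module.Finite.exists_fin (R := A)
    (M := Coh.HH (LocCoh.puncturedOpen A 𝔞 : Scheme.{u}) (gob G 0) 1)
  haveI : IsLocallyNoetherian (LocCoh.puncturedOpen A 𝔞 : Scheme.{u}) :=
    isLocallyNoetherian_of_isOpenImmersion (LocCoh.puncturedOpen A 𝔞).ι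
  have hs : ∀ n, ∃ (N : ℕ) (a : Fin N → A) (ha : ∀ i, a i ∈ I ^ (n + 1)) (σ : Fin N → (K G n ⟶ gob G 0)),
      ∑ i, σ i ≫ μ G hG n (ha i) = 𝟙 _ := fun n => by
    obtain ⟨N, a, ha, hx⟩ := h n
    exact exists_split_of_coeff (LocCoh.puncturedOpen A 𝔞) G hG n a ha (fun x hxI => (hx x hxI).1)
      fun x hxI z hz k => coeff_mem G hG x n a (hx x hxI).1 (hx x hxI).2 z hz k
  exact canonicallyExtends hI𝔞 G hG h0 c (clsSurj_of_split G hG c hc hs) e (clsSurj_of_split G hG e he hs)

end GrothLib.CanExt7
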